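import Cfsg.Agent.Fusion.Homocyclic.Linear
import Cfsg.Agent.Blocks.Congr
import Cfsg.Agent.Solvable.Basics

/-!
# Brauer's theorem on homocyclic Sylow 2-subgroups of rank two
-/

set_option autoImplicit false
set_option linter.style.haveILetI false
set_option linter.unusedSectionVars false

namespace CfsgLib.Homocyclic

open Cfsg

universe u

variable {G : Type u} [Group G] [Finite G]

theorem pPrimeCore_char {p : ℕ} : (pPrimeCore p G).Characteristic := by
  refine Subgroup.characteristic_iff_map_le.2 fun φ => ?_
  exact CfsgLib.Solvable.le_pPrimeCore _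
    (Subgroup.Normal.map (CfsgLib.Solvable.pPrimeCore_normal p) φ.toMonoidHom φ.surjective)
    (by rw [Subgroup.card_map_of_injective φ.injective]; exact (CfsgLib.Solvable.coprime_card_pPrimeCore _))

/-- A normal `2`-complement is trivial when `O(G) = 1`. -/
theorem eq_top_of_complement {P : Sylow 2 G}
    (hO : ∀ N : Subgroup G, N.Normal → Odd (Nat.card N) → N = ⊥) {K : Subgroup G} [K.Normal]
    (hK : K.IsComplement' (P : Subgroup G)) : (P : Subgroup G) = ⊤ := by
  haveI : Fact (Nat.Prime 2) := ⟨Nat.prime_two⟩
  have hodd : Odd (Nat.card K) := by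
    rw [← hK.index_eq_card, Nat.odd_iff, ← Nat.two_dvd_ne_zero]
    exact P.not_dvd_index
  have h := hK.sup_eq_top
  rwa [hO K inferInstance hodd, bot_sup_eq] at h

theorem normal_sylow : ∀ (n : ℕ) (G : Type u) [Group G] [Finite G] (P : Sylow 2 G),
    Nat.card G = n → HomocyclicTwo.Setup P → 16 ≤ Nat.card (P : Subgroup G) →
    (∃ x : (P : Subgroup G), x * x ≠ 1) →
    (∀ N : Subgroup G, N.Normal → Odd (Nat.card N) → N = ⊥) → (P : Subgroup G).Normal := by
  intro n
  induction n using Nat.strong_induction_on with
  | _ n ih =>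
    intro G _ _ P hn hS hbig hexp hO
    haveI : Fact (Nat.Prime 2) := ⟨Nat.prime_two⟩
    rcases HomocyclicTwo.relIndex_one_or_three hS with h1 | h3
    · have h : Subgroup.normalizer ((P : Subgroup G) : Set G) ≤
          Subgroup.centralizer ((P : Subgroup G) : Set G) := Subgroup.relIndex_eq_one.1 h1
      rw [eq_top_of_complement hO (MonoidHom.ker_transferSylow_isComplement' P h)]
      infer_instance
    · obtain ⟨g, hg, hgC⟩ : ∃ g, g ∈ Subgroup.normalizer ((P : Subgroup G) : Set G) ∧
          g ∉ Subgroup.centralizer ((P : Subgroup G) : Set G) :=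
        SetLike.not_le_iff_exists.1 fun hle => by
          have := Subgroup.relIndex_eq_one.2 hle
          omega
      let D : Data P := ⟨hS, g, hg, hgC, h3⟩
      letI := Fintype.ofFinite G
      obtain ⟨M, hM⟩ := CfsgLib.Block.exists_isPModular Nat.prime_two
      haveI := hM.2.1.isPrime
      obtain ⟨ν, hν, hνP⟩ := D.exists_linear hM hbig hexp
      set K := ν.ker
      have hPK : (P : Subgroup G) ≤ K := fun y hy => MonoidHom.mem_ker.2 (hνP y hy)
      have hKne : K ≠ ⊤ := fun h => hν (MonoidHom.ext fun y =>
        MonoidHom.mem_ker.1 (show y ∈ K from h ▸ Subgroup.mem_top y))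
      let Q : Sylow 2 K := P.subtype hPK
      have eQ : (Q : Subgroup K) ≃* (P : Subgroup G) := Subgroup.subgroupOfEquivOfLe hPK
      have hQS : HomocyclicTwo.Setup Q := by
        refine ⟨fun a ha b hb => Subtype.ext (hS.comm a ha b hb), ?_⟩
        rw [← hS.three]
        exact Nat.card_congr
          { toFun := fun u => ⟨(u.1 : G), u.2.1, by rw [Subgroup.orderOf_coe]; exact u.2.2⟩
            invFun := fun u => ⟨⟨u.1, hPK u.2.1⟩, u.2.1, by rw [Subgroup.orderOf_mk]; exact u.2.2⟩
            left_inv := fun u => rfl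
            right_inv := fun u => rfl }
      have hQn : (Q : Subgroup K).Normal := by
        refine ih (Nat.card K) ?_ K Q rfl hQS (by rwa [Nat.card_congr eQ.toEquiv]) ?_ ?_
        · rw [← hn]
          exact lt_of_le_of_ne (Subgroup.card_le_card_group _)
            fun h => hKne (Subgroup.eq_top_of_card_eq _ h)
        · obtain ⟨x, hx⟩ := hexp
          exact ⟨eQ.symm x, fun h => hx (by simpa using congrArg eQ h)⟩
        · intro N hN hodd
          haveI := hN
          have hle : N ≤ pPrimeCore 2 K :=
            CfsgLib.Solvable.le_pPrimeCore _ hN (Nat.coprime_two_right.2 hodd)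
          haveI : (pPrimeCore 2 K).Characteristic := pPrimeCore_char
          haveI : ((pPrimeCore 2 K).map K.subtype).Normal :=
            ConjAct.normal_of_characteristic_of_normal
          have h0 := hO ((pPrimeCore 2 K).map K.subtype) inferInstance (by
            rw [Subgroup.card_map_of_injective K.subtype_injective]
            exact Nat.coprime_two_right.1 (CfsgLib.Solvable.coprime_card_pPrimeCore _))
          rw [Subgroup.map_eq_bot_iff_of_injective _ K.subtype_injective] at h0
          exact eq_bot_iff.2 (h0 ▸ hle)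
      haveI := Q.characteristic_of_normal hQn
      haveI : (Q : Subgroup K).map K.subtype |>.Normal :=
        ConjAct.normal_of_characteristic_of_normal
      have hmap : (Q : Subgroup K).map K.subtype = (P : Subgroup G) :=
        Subgroup.map_subgroupOf_eq_of_le hPK
      rw [← hmap]
      infer_instance

/-- **Brauer's theorem.** -/
theorem brauer {G : Type u} [Group G] [Finite G] (P : Sylow 2 G) (m : ℕ) (hm : 2 ≤ m)
    (e : (P : Subgroup G) ≃* Multiplicative (ZMod (2 ^ m) × ZMod (2 ^ m)))
    (hO : ∀ N : Subgroup G, N.Normal → Odd (Nat.card N) → N = ⊥) :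
    (P : Subgroup G).Normal ∧ Subgroup.centralizer (P : Set G) = (P : Subgroup G) ∧
      ((P : Subgroup G).index = 1 ∨ (P : Subgroup G).index = 3) := by
  haveI : Fact (Nat.Prime 2) := ⟨Nat.prime_two⟩
  have hS := HomocyclicTwo.setup_of_equiv P (by omega) e
  haveI : NeZero (2 ^ m) := ⟨pow_ne_zero _ two_ne_zero⟩
  have h4 : 4 ≤ 2 ^ m := le_trans (by norm_num) (Nat.pow_le_pow_right two_pos hm)
  have hcard : 16 ≤ Nat.card (P : Subgroup G) := by
    rw [Nat.card_congr e.toEquiv, Nat.card_congr Multiplicative.toAdd, Nat.card_prod,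
      Nat.card_zmod]
    nlinarith
  have hexp : ∃ x : (P : Subgroup G), x * x ≠ 1 := by
    refine ⟨e.symm (Multiplicative.ofAdd (1, 0)), fun h => ?_⟩
    have h1 := congrArg (fun y => (Multiplicative.toAdd (e y)).1) h
    simp only [map_mul, MulEquiv.apply_symm_apply, map_one, toAdd_one, toAdd_mul, toAdd_ofAdd,
      Prod.fst_add, Prod.fst_zero] at h1
    have h2 : ((2 : ℕ) : ZMod (2 ^ m)) = 0 := by
      rw [Nat.cast_ofNat, ← one_add_one_eq_two (R := ZMod (2 ^ m))]; exact h1
    rw [ZMod.natCast_eq_zero_iff] at h2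
    have := Nat.le_of_dvd two_pos h2
    omega
  have hN := normal_sylow (Nat.card G) G P rfl hS hcard hexp hO
  set C := Subgroup.centralizer ((P : Subgroup G) : Set G)
  have hPC : (P : Subgroup G) ≤ C := HomocyclicTwo.le_centralizer hS
  haveI : C.Normal := Subgroup.normal_centralizer
  let Q : Sylow 2 C := P.subtype hPC
  have hQ : (Q : Subgroup C) = (P : Subgroup G).subgroupOf C := rfl
  have hQn : Subgroup.normalizer ((Q : Subgroup C) : Set C) ≤
      Subgroup.centralizer ((Q : Subgroup C) : Set C) := fun n _ =>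
    Subgroup.mem_centralizer_iff.2 fun q hq =>
      Subtype.ext (Subgroup.mem_centralizer_iff.1 n.2 _ hq)
  have hc := MonoidHom.ker_transferSylow_isComplement' Q hQn
  set K := (MonoidHom.transferSylow Q hQn).ker
  have hKodd : Odd (Nat.card K) := by
    rw [← hc.index_eq_card, Nat.odd_iff, ← Nat.two_dvd_ne_zero]
    exact Q.not_dvd_index
  haveI : (pPrimeCore 2 C).Characteristic := pPrimeCore_char
  haveI : ((pPrimeCore 2 C).map C.subtype).Normal := ConjAct.normal_of_characteristic_of_normal
  have h0 := hO ((pPrimeCore 2 C).map C.subtype) inferInstance (by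
    rw [Subgroup.card_map_of_injective C.subtype_injective]
    exact Nat.coprime_two_right.1 (CfsgLib.Solvable.coprime_card_pPrimeCore _))
  rw [Subgroup.map_eq_bot_iff_of_injective _ C.subtype_injective] at h0
  have hK : K = ⊥ := eq_bot_iff.2 (h0 ▸
    CfsgLib.Solvable.le_pPrimeCore _ inferInstance (Nat.coprime_two_right.2 hKodd))
  have hQtop : (Q : Subgroup C) = ⊤ := by
    have h := hc.sup_eq_top
    rwa [hK, bot_sup_eq] at h
  have hCP : C = (P : Subgroup G) := by
    refine le_antisymm (fun c hc' => ?_) hPC
    have : (⟨c, hc'⟩ : C) ∈ (Q : Subgroup C) := hQtop ▸ Subgroup.mem_top _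
    exact this
  refine ⟨hN, hCP, ?_⟩
  haveI := hN
  have := HomocyclicTwo.relIndex_one_or_three hS
  rw [Subgroup.normalizer_eq_top, Subgroup.relIndex_top_right] at this
  rwa [show (P : Subgroup G).index = C.index by rw [hCP]]

end CfsgLib.Homocyclic
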