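import Mathlib.Data.Finset.Powerset
import Mathlib.Data.Int.Basic
import Mathlib.Algebra.Order.Ring.Abs
import Mathlib.Tactic.Linarith
import Mathlib.Tactic.Ring
import Mathlib.Tactic.Positivity
import Mathlib.Tactic.LinearCombination

/-!
# Three-element sets meeting pairwise in two points, and a degree equation
-/

set_option autoImplicit false

namespace CfsgLib.Homocyclic

open Finset

/-- Five three-element sets meeting pairwise in two points have two points in common. -/
theorem sunflower {X : Type*} [DecidableEq X] (F : Finset (Finset X))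
    (h3 : ∀ s ∈ F, s.card = 3) (h2 : ∀ s ∈ F, ∀ t ∈ F, s ≠ t → (s ∩ t).card = 2)
    (h5 : 5 ≤ F.card) : ∃ A : Finset X, A.card = 2 ∧ ∀ s ∈ F, A ⊆ s := by
  obtain ⟨s, hs⟩ := card_pos.1 (show 0 < F.card by omega)
  obtain ⟨t, ht, hts⟩ := exists_mem_ne (show 1 < F.card by omega) s
  refine ⟨s ∩ t, h2 s hs t ht (Ne.symm hts), ?_⟩
  by_contra hcon
  push Not at hcon
  obtain ⟨r, hr, hAr⟩ := hcon
  -- every further member lies in the union
  have hU : (s ∪ t).card = 4 := by
    have := card_union_add_card_inter s t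
    rw [h3 s hs, h3 t ht, h2 s hs t ht (Ne.symm hts)] at this
    omega
  have hin : ∀ k ∈ F, ¬ s ∩ t ⊆ k → k ⊆ s ∪ t := by
    intro k hk hAk
    have hks : k ≠ s := fun h => hAk (h ▸ inter_subset_left)
    have hkt : k ≠ t := fun h => hAk (h ▸ inter_subset_right)
    by_contra hsub
    -- `k` has at most two points in the union, so they lie in both
    have h1 : (k ∩ (s ∪ t)).card ≤ 2 := by
      have : k ∩ (s ∪ t) ⊂ k := by
        refine Finset.ssubset_iff_subset_ne.2 ⟨inter_subset_left, fun h => hsub ?_⟩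
        rw [← h]; exact inter_subset_right
      have := card_lt_card this
      rw [h3 k hk] at this
      omega
    have e1 : k ∩ s = k ∩ (s ∪ t) := eq_of_subset_of_card_le
      (inter_subset_inter_left subset_union_left) (by rw [h2 k hk s hs hks]; exact h1)
    have e2 : k ∩ t = k ∩ (s ∪ t) := eq_of_subset_of_card_le
      (inter_subset_inter_left subset_union_right) (by rw [h2 k hk t ht hkt]; exact h1)
    have hsub2 : k ∩ (s ∪ t) ⊆ s ∩ t := fun x hx =>
      mem_inter.2 ⟨(mem_inter.1 (e1 ▸ hx)).2, (mem_inter.1 (e2 ▸ hx)).2⟩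
    have e3 : k ∩ (s ∪ t) = s ∩ t := eq_of_subset_of_card_le hsub2 (by
      rw [h2 s hs t ht (Ne.symm hts), ← e1, h2 k hk s hs hks])
    exact hAk (e3 ▸ inter_subset_left)
  have hrU := hin r hr hAr
  have hall : ∀ k ∈ F, k ⊆ s ∪ t := by
    intro k hk
    by_cases hAk : s ∩ t ⊆ k
    · -- compare with `r`
      by_contra hsub
      have hkr : k ≠ r := fun h => hsub (h ▸ hrU)
      have hks : k ≠ s := fun h => hsub (h ▸ subset_union_left)
      have hkU : k ∩ (s ∪ t) = s ∩ t := by
        refine (eq_of_subset_of_card_le (subset_inter hAk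
          (inter_subset_left.trans subset_union_left)) ?_).symm
        have : k ∩ (s ∪ t) ⊂ k := by
          refine Finset.ssubset_iff_subset_ne.2 ⟨inter_subset_left, fun h => hsub ?_⟩
          rw [← h]; exact inter_subset_right
        have := card_lt_card this
        rw [h3 k hk] at this
        rw [h2 s hs t ht (Ne.symm hts)]
        omega
      have h4 : k ∩ r ⊆ (s ∩ t) ∩ r := fun x hx => by
        have h5 := mem_inter.1 hx
        exact mem_inter.2 ⟨hkU ▸ mem_inter.2 ⟨h5.1, hrU h5.2⟩, h5.2⟩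
      have h6 := card_le_card h4
      rw [h2 k hk r hr hkr] at h6
      have h7 : ((s ∩ t) ∩ r).card < (s ∩ t).card := card_lt_card
        (Finset.ssubset_iff_subset_ne.2 ⟨inter_subset_left, fun h => hAr (h ▸ inter_subset_right)⟩)
      rw [h2 s hs t ht (Ne.symm hts)] at h7
      omega
    · exact hin k hk hAk
  have hle : F ⊆ (s ∪ t).powersetCard 3 := fun k hk => mem_powersetCard.2 ⟨hall k hk, h3 k hk⟩
  have := card_le_card hle
  rw [card_powersetCard, hU] at this
  have h4 : Nat.choose 4 3 = 4 := rfl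
  omega

/-- The only solution of the degree equation in integers congruent to one modulo sixteen. -/
theorem degree_solve {a b E : ℤ} (ha : 16 ∣ a - 1) (hb : 16 ∣ b - 1) (hE : 1 + a + b = E)
    (hq : (a * b + a + b) * E = 9 * (a * b)) : a = 1 ∧ b = 1 := by
  have key : (a + b) * ((a + 1) * (b + 1)) = 8 * (a * b) := by rw [← hE] at hq; linarith
  have hne : ∀ c : ℤ, 16 ∣ c - 1 → c = 1 ∨ 15 ≤ |c| := fun c hc => by
    obtain ⟨k, hk⟩ := hc
    rcases lt_trichotomy k 0 with h | h | h
    · right; rw [abs_of_neg (by omega)]; omega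
    · left; omega
    · right; rw [abs_of_pos (by omega)]; omega
  have hlow : ∀ c : ℤ, 16 ∣ c - 1 → 14 * |c| ≤ 15 * |c + 1| := fun c hc => by
    have h1 : |c| ≤ |c + 1| + 1 := by
      have := abs_add_le (c + 1) (-1)
      simpa using this
    rcases hne c hc with rfl | h
    · norm_num
    · omega
  by_cases hs : a + b = 2
  · have hab : a * b = 1 := by
      rw [hs] at key
      linarith
    rcases Int.mul_eq_one_iff_eq_one_or_neg_one.1 hab with ⟨h1, h2⟩ | ⟨h1, h2⟩
    · exact ⟨h1, h2⟩
    · omega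
  · exfalso
    obtain ⟨k, hk⟩ := ha
    obtain ⟨l, hl⟩ := hb
    have h14 : 14 ≤ |a + b| := by
      rcases le_or_gt 0 (a + b) with h | h
      · rw [abs_of_nonneg h]; omega
      · rw [abs_of_neg h]; omega
    have ha0 : (0 : ℤ) < |a| := abs_pos.2 (by omega)
    have hb0 : (0 : ℤ) < |b| := abs_pos.2 (by omega)
    have hla := hlow a ⟨k, hk⟩
    have hlb := hlow b ⟨l, hl⟩
    have h2 : 14 * |a| * (14 * |b|) ≤ 15 * |a + 1| * (15 * |b + 1|) :=
      mul_le_mul hla hlb (by positivity) (by positivity)
    have h3 : |a + b| * (|a + 1| * |b + 1|) = 8 * (|a| * |b|) := by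
      rw [← abs_mul, ← abs_mul, key, abs_mul, abs_mul]; norm_num
    have h4 : 14 * (|a + 1| * |b + 1|) ≤ |a + b| * (|a + 1| * |b + 1|) :=
      mul_le_mul_of_nonneg_right h14 (by positivity)
    nlinarith [mul_pos ha0 hb0]

end CfsgLib.Homocyclic
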