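import Cfsg.Agent.Fusion.Homocyclic.Setup
import Cfsg.Agent.Fusion.Homocyclic.Comb

/-!
# A nontrivial linear character that is trivial on the Sylow subgroup

The differences `u μ = a 1 - a μ` of the multiplicities on the Sylow subgroup have norm four and
mutual product three on the principal block; so they share two characters, and the column
relations at an involution force these two to be linear.
-/

set_option autoImplicit false
set_option linter.style.haveILetI false
set_option linter.unusedSectionVars false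

namespace CfsgLib.Homocyclic

open Cfsg Finset CfsgLib.Block CfsgLib.Block.Chr CfsgLib.Char CfsgLib.BlockB CfsgLib.HomocyclicTwo
open scoped ComplexConjugate
open scoped Classical

universe u

variable {G : Type u} [Group G] [Fintype G] {P : Sylow 2 G} (D : Data P)
  {M : Ideal AlgInt} [M.IsPrime]

/-- The multiplicity of a linear character of the Sylow subgroup. -/
noncomputable def amult (χ : IrrCharacter G) (μ : (P : Subgroup G) →* ℂˣ) : ℂ :=
  mult (P : Subgroup G) (homFun μ) χ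

theorem exists_amult (χ : IrrCharacter G) (μ : (P : Subgroup G) →* ℂˣ) :
    ∃ n : ℤ, amult χ μ = n :=
  exists_mult_eq_int _ (IsCharacter.isGeneralized (isCharacter_ofHom μ)) χ

/-- The difference of the multiplicities. -/
noncomputable def udiff (χ : IrrCharacter G) (μ : (P : Subgroup G) →* ℂˣ) : ℤ :=
  (exists_amult (P := P) χ 1).choose - (exists_amult χ μ).choose

theorem udiff_spec (χ : IrrCharacter G) (μ : (P : Subgroup G) →* ℂˣ) :
    (udiff χ μ : ℂ) = amult (P := P) χ 1 - amult χ μ := by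
  rw [udiff, Int.cast_sub, ← (exists_amult (P := P) χ 1).choose_spec, ← (exists_amult χ μ).choose_spec]

theorem udiff_one (χ : IrrCharacter G) : udiff (P := P) χ 1 = 0 := by rw [udiff, sub_self]

theorem amult_eq (χ : IrrCharacter G) (μ : (P : Subgroup G) →* ℂˣ) :
    amult χ μ = (Nat.card (P : Subgroup G) : ℂ)⁻¹ *
      ∑ y : (P : Subgroup G), (χ : G → ℂ) (y : G) * (μ y⁻¹ : ℂ) := by
  rw [amult, mult, finsum_eq_sum_of_fintype]; rfl

theorem Data.amult_c (χ : IrrCharacter G) (μ : (P : Subgroup G) →* ℂˣ) :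
    amult χ (μ.comp D.c) = amult χ μ := by
  rw [amult_eq, amult_eq]
  congr 1
  refine Fintype.sum_bijective D.c D.c_bijective _ _ fun y => ?_
  rw [D.c_val, isClassFunction_irr χ, MonoidHom.comp_apply, map_inv D.c]

theorem Data.mult_theta (χ : IrrCharacter G) (μ : (P : Subgroup G) →* ℂˣ) :
    mult (P : Subgroup G) (D.theta μ) χ = 3 * (udiff χ μ : ℂ) := by
  have h : mult (P : Subgroup G) (D.theta μ) χ = 3 * amult (P := P) χ 1 -
      (amult χ μ + amult χ (μ.comp D.c) + amult χ (μ.comp (D.c.comp D.c))) := by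
    simp only [amult_eq, mult, finsum_eq_sum_of_fintype]
    rw [mul_left_comm (3 : ℂ), ← mul_add, ← mul_add, ← mul_sub]
    congr 1
    rw [mul_sum, ← sum_add_distrib, ← sum_add_distrib, ← sum_sub_distrib]
    refine sum_congr rfl fun y _ => ?_
    simp only [Data.theta, Data.S, MonoidHom.comp_apply, MonoidHom.one_apply, Units.val_one]
    ring
  rw [h, show μ.comp (D.c.comp D.c) = (μ.comp D.c).comp D.c from rfl]
  simp only [D.amult_c, udiff_spec]
  ring

theorem Data.udiff_rel {μ ν : (P : Subgroup G) →* ℂˣ} (h : D.Rel μ ν) (χ : IrrCharacter G) :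
    udiff χ μ = udiff χ ν := by
  have : amult χ μ = amult χ ν := by
    rcases h with rfl | rfl | rfl
    · rfl
    · rw [D.amult_c]
    · rw [show ν.comp (D.c.comp D.c) = (ν.comp D.c).comp D.c from rfl, D.amult_c, D.amult_c]
  exact Int.cast_injective (α := ℂ) (by rw [udiff_spec, udiff_spec, this])

theorem Data.sum_udiff (hM : IsPModular 2 M) [Fintype (IrrCharacter G)]
    (μ ν : (P : Subgroup G) →* ℂˣ) (hμ : μ ≠ 1) (hν : ν ≠ 1) :
    ∑ χ ∈ univ.filter (· ∈ principalBlock M G), udiff χ μ * udiff χ ν =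
      3 + if D.Rel μ ν then 1 else 0 := by
  have h := D.column (M := M) hM μ ν hμ hν
  simp only [D.mult_theta, map_mul, map_ofNat, map_intCast] at h
  refine Int.cast_injective (α := ℂ) ?_
  push_cast
  have h9 : (9 : ℂ) * ∑ χ ∈ univ.filter (· ∈ principalBlock M G),
      (udiff χ μ : ℂ) * (udiff χ ν : ℂ) = 27 + 9 * (if D.Rel μ ν then 1 else 0) := by
    rw [← h, mul_sum]
    exact sum_congr rfl fun χ _ => by ring
  linear_combination h9 / 9

theorem udiff_oneIrr {μ : (P : Subgroup G) →* ℂˣ} (hμ : μ ≠ 1) : udiff (oneIrr G) μ = 1 := by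
  have hq : (Nat.card (P : Subgroup G) : ℂ) ≠ 0 := Nat.cast_ne_zero.2 Nat.card_pos.ne'
  refine Int.cast_injective (α := ℂ) ?_
  rw [udiff_spec, amult_eq, amult_eq, Int.cast_one]
  have h0 : ∑ y : (P : Subgroup G), (μ y⁻¹ : ℂ) = 0 := by
    have := sum_hom_orth (1 : (P : Subgroup G) →* ℂˣ) μ
    rw [if_neg (Ne.symm hμ)] at this
    rw [← this]
    refine sum_congr rfl fun y _ => ?_
    rw [MonoidHom.one_apply, Units.val_one, one_mul]
    exact IsCharacter.apply_inv (isCharacter_ofHom μ) y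
  simp only [oneIrr_apply, one_mul, h0, mul_zero, MonoidHom.one_apply, Units.val_one, sum_const,
    card_univ, nsmul_eq_mul, mul_one, ← Nat.card_eq_fintype_card, sub_zero]
  exact inv_mul_cancel₀ hq

theorem Data.exists_linear (D : Data P) (hM : IsPModular 2 M)
    (hbig : 16 ≤ Nat.card (P : Subgroup G))
    (hexp : ∃ x : (P : Subgroup G), x * x ≠ 1) :
    ∃ ν : G →* ℂˣ, ν ≠ 1 ∧ ∀ y ∈ (P : Subgroup G), ν y = 1 := by
  haveI : Fact (Nat.Prime 2) := ⟨Nat.prime_two⟩
  letI := irrFintype (G := G)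
  letI : CommGroup (P : Subgroup G) :=
    { (inferInstance : Group (P : Subgroup G)) with
      mul_comm := fun a b => Subtype.ext (D.setup.comm a a.2 b b.2) }
  obtain ⟨e⟩ := CommGroup.monoidHom_mulEquiv_of_hasEnoughRootsOfUnity ↥(P : Subgroup G) ℂ
  haveI : Finite (↥(P : Subgroup G) →* ℂˣ) := Finite.of_equiv ↥(P : Subgroup G) e.symm.toEquiv
  letI : Fintype (↥(P : Subgroup G) →* ℂˣ) := Fintype.ofFinite _
  have hcardL : Fintype.card (↥(P : Subgroup G) →* ℂˣ) = Nat.card ↥(P : Subgroup G) := by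
    rw [← Nat.card_eq_fintype_card]; exact Nat.card_congr e.toEquiv
  set B := principalBlock M G
  set X := univ.filter fun χ : IrrCharacter G => χ ∈ B ∧ χ ≠ oneIrr G
  have hsplit : ∀ F : IrrCharacter G → ℂ,
      ∑ χ ∈ univ.filter (· ∈ B), F χ = F (oneIrr G) + ∑ χ ∈ X, F χ := by
    intro F
    have h1 : oneIrr G ∈ univ.filter (· ∈ B) :=
      mem_filter.2 ⟨mem_univ _, oneIrr_mem_principalBlock⟩
    rw [← add_sum_erase _ _ h1]
    congr 1
    refine sum_congr ?_ fun _ _ => rfl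
    ext χ; simp [X, and_comm]
  set T : (↥(P : Subgroup G) →* ℂˣ) → Finset (IrrCharacter G) := fun μ => X.filter fun χ => udiff χ μ ≠ 0
  -- norms and products off the trivial character
  have hX : ∀ μ ν : ↥(P : Subgroup G) →* ℂˣ, μ ≠ 1 → ν ≠ 1 →
      ∑ χ ∈ X, udiff χ μ * udiff χ ν = 2 + if D.Rel μ ν then 1 else 0 := by
    intro μ ν hμ hν
    have h := D.sum_udiff (M := M) hM μ ν hμ hν
    rw [← add_sum_erase _ _ (mem_filter.2 ⟨mem_univ (oneIrr G),
      (oneIrr_mem_principalBlock : oneIrr G ∈ B)⟩), udiff_oneIrr hμ, udiff_oneIrr hν] at h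
    rw [show X = (univ.filter (· ∈ B)).erase (oneIrr G) by ext χ; simp [X, and_comm]]
    linarith
  have hsmall : ∀ μ : ↥(P : Subgroup G) →* ℂˣ, μ ≠ 1 → ∀ χ ∈ X,
      udiff χ μ = 0 ∨ udiff χ μ = 1 ∨ udiff χ μ = -1 := by
    intro μ hμ χ hχ
    have h := single_le_sum (f := fun χ => udiff χ μ * udiff χ μ)
      (fun i _ => mul_self_nonneg _) hχ
    rw [hX μ μ hμ hμ, if_pos (show D.Rel μ μ from Or.inl rfl)] at h
    rcases lt_trichotomy (udiff χ μ) 0 with h' | h' | h'
    · right; right; nlinarith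
    · left; exact h'
    · right; left; nlinarith
  have hT3 : ∀ μ : ↥(P : Subgroup G) →* ℂˣ, μ ≠ 1 → (T μ).card = 3 := by
    intro μ hμ
    have h := hX μ μ hμ hμ
    rw [if_pos (show D.Rel μ μ from Or.inl rfl), ← sum_filter_add_sum_filter_not X (fun χ => udiff χ μ ≠ 0),
      sum_eq_zero (s := X.filter fun χ => ¬ udiff χ μ ≠ 0) (fun χ hχ => by
        rw [not_not.1 (mem_filter.1 hχ).2, zero_mul]), add_zero,
      sum_congr rfl (g := fun _ => (1 : ℤ)) (fun χ hχ => by
        rcases hsmall μ hμ χ (mem_filter.1 hχ).1 with h' | h' | h'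
        · exact absurd h' (mem_filter.1 hχ).2
        · rw [h']; rfl
        · rw [h']; rfl), sum_const, nsmul_eq_mul, mul_one] at h
    exact_mod_cast h
  have hT2 : ∀ μ ν : ↥(P : Subgroup G) →* ℂˣ, μ ≠ 1 → ν ≠ 1 → ¬ D.Rel μ ν →
      (T μ ∩ T ν).card = 2 ∧ ∀ χ ∈ T μ ∩ T ν, udiff χ μ = udiff χ ν := by
    intro μ ν hμ hν hR
    have h := hX μ ν hμ hν
    rw [if_neg hR, add_zero] at h
    have h' : ∑ χ ∈ T μ ∩ T ν, udiff χ μ * udiff χ ν = 2 := by
      refine (sum_subset (fun χ hχ => (mem_filter.1 (mem_inter.1 hχ).1).1) fun χ hχ hn => ?_).trans h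
      simp only [T, mem_inter, mem_filter, hχ, true_and, not_and, not_not] at hn
      by_cases h0 : udiff χ μ = 0
      · rw [h0, zero_mul]
      · rw [hn h0, mul_zero]
    have hpm : ∀ χ ∈ T μ ∩ T ν, udiff χ μ * udiff χ ν = 1 ∨ udiff χ μ * udiff χ ν = -1 := by
      intro χ hχ
      simp only [T, mem_inter, mem_filter] at hχ
      rcases hsmall μ hμ χ hχ.1.1 with a | a | a <;> rcases hsmall ν hν χ hχ.1.1 with b | b | b <;>
        simp_all
    have hle : (T μ ∩ T ν).card ≤ 3 := (card_le_card inter_subset_left).trans (hT3 μ hμ).le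
    have hodd : (2 : ℤ) ∣ ∑ χ ∈ T μ ∩ T ν, (udiff χ μ * udiff χ ν - 1) := dvd_sum fun χ hχ => by
      rcases hpm χ hχ with e | e <;> rw [e] <;> decide
    rw [sum_sub_distrib, h', sum_const, nsmul_eq_mul, mul_one] at hodd
    have hge : (2 : ℤ) ≤ (T μ ∩ T ν).card := by
      rw [← h']
      refine (sum_le_sum (g := fun _ => (1 : ℤ)) fun χ hχ => ?_).trans (by simp)
      rcases hpm χ hχ with e | e <;> rw [e]; decide
    have hc2 : (T μ ∩ T ν).card = 2 := by omega
    refine ⟨hc2, fun χ hχ => ?_⟩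
    have h1 : udiff χ μ * udiff χ ν = 1 := by
      by_contra hne
      have h0 : ∑ χ ∈ T μ ∩ T ν, (1 - udiff χ μ * udiff χ ν) = 0 := by
        rw [sum_sub_distrib, h', sum_const, hc2]; rfl
      have := (sum_eq_zero_iff_of_nonneg fun i hi => by
        rcases hpm i hi with e | e <;> rw [e] <;> decide).1 h0 χ hχ
      exact hne (by linarith)
    rcases Int.mul_eq_one_iff_eq_one_or_neg_one.1 h1 with ⟨a, b⟩ | ⟨a, b⟩ <;> rw [a, b]
  -- the family
  set I := (univ : Finset (↥(P : Subgroup G) →* ℂˣ)).erase 1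
  have hmemI : ∀ μ ∈ I, μ ≠ 1 := fun μ hμ => (mem_erase.1 hμ).1
  have hTrel : ∀ μ ν : ↥(P : Subgroup G) →* ℂˣ, D.Rel μ ν → T μ = T ν := fun μ ν h =>
    filter_congr fun χ _ => by rw [D.udiff_rel h]
  have hrelT : ∀ μ ∈ I, ∀ ν ∈ I, T μ = T ν → D.Rel μ ν := by
    intro μ hμ ν hν h
    by_contra hR
    have := (hT2 μ ν (hmemI μ hμ) (hmemI ν hν) hR).1
    rw [h, inter_self, hT3 ν (hmemI ν hν)] at this
    omega
  have hF5 : 5 ≤ (I.image T).card := by
    have hfib : ∀ s ∈ I.image T, (I.filter fun μ => T μ = s).card ≤ 3 := by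
      intro s hs
      obtain ⟨ν, hν, rfl⟩ := mem_image.1 hs
      refine le_trans (card_le_card (t := {ν, ν.comp D.c, ν.comp (D.c.comp D.c)}) fun μ hμ => ?_)
        card_le_three
      rw [mem_filter] at hμ
      rcases hrelT μ hμ.1 ν hν hμ.2 with rfl | rfl | rfl <;> simp
    have h := card_le_mul_card_image I 3 hfib
    rw [card_erase_of_mem (mem_univ _), card_univ, hcardL] at h
    have : 16 ≤ Nat.card ↥(P : Subgroup G) := hbig
    omega
  obtain ⟨A, hA2, hA⟩ := sunflower (I.image T) (fun s hs => by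
      obtain ⟨μ, hμ, rfl⟩ := mem_image.1 hs
      exact hT3 μ (hmemI μ hμ))
    (fun s hs t ht hst => by
      obtain ⟨μ, hμ, rfl⟩ := mem_image.1 hs
      obtain ⟨ν, hν, rfl⟩ := mem_image.1 ht
      exact (hT2 μ ν (hmemI μ hμ) (hmemI ν hν) fun h => hst (hTrel μ ν h)).1) hF5
  -- a character trivial on the involutions
  obtain ⟨x₀, hx₀⟩ := hexp
  obtain ⟨ν₁, hν₁⟩ := CommGroup.exists_apply_ne_one_of_hasEnoughRootsOfUnity ↥(P : Subgroup G) ℂ hx₀
  set μ₀ : ↥(P : Subgroup G) →* ℂˣ := ν₁ * ν₁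
  have hμ₀ : μ₀ ≠ 1 := fun h => hν₁ (by
    rw [map_mul]
    exact DFunLike.congr_fun h x₀)
  have hμ₀I : μ₀ ∈ I := mem_erase.2 ⟨hμ₀, mem_univ _⟩
  have hμ₀sq : ∀ y : ↥(P : Subgroup G), y * y = 1 → μ₀ y = 1 := fun y hy => by
    show ν₁ y * ν₁ y = 1
    rw [← map_mul, hy, map_one]
  have hAμ₀ : A ⊆ T μ₀ := hA _ (mem_image_of_mem T hμ₀I)
  obtain ⟨w, hw⟩ : ∃ w, T μ₀ \ A = {w} := card_eq_one.1 (by
    rw [card_sdiff_of_subset hAμ₀, hT3 μ₀ hμ₀, hA2])
  have hwT : w ∈ T μ₀ \ A := by rw [hw]; exact mem_singleton_self w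
  obtain ⟨α, β, hαβ, hAeq⟩ := card_eq_two.1 hA2
  have hconst : ∀ χ ∈ A, ∀ μ ∈ I, udiff χ μ = udiff χ μ₀ := by
    intro χ hχ μ hμ
    by_cases hR : D.Rel μ μ₀
    · exact D.udiff_rel hR χ
    · exact (hT2 μ μ₀ (hmemI μ hμ) hμ₀ hR).2 χ
        (mem_inter.2 ⟨hA _ (mem_image_of_mem T hμ) hχ, hAμ₀ hχ⟩)
  have hwzero : ∀ μ ∈ I, udiff w μ = if D.Rel μ μ₀ then udiff w μ₀ else 0 := by
    intro μ hμ
    split_ifs with hR
    · exact D.udiff_rel hR w
    · by_contra hne
      have hwμ : w ∈ T μ := mem_filter.2 ⟨(mem_filter.1 (mem_sdiff.1 hwT).1).1, hne⟩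
      have hsub : insert w A ⊆ T μ ∩ T μ₀ := insert_subset (mem_inter.2 ⟨hwμ, (mem_sdiff.1 hwT).1⟩)
        (subset_inter (hA _ (mem_image_of_mem T hμ)) hAμ₀)
      have := card_le_card hsub
      rw [card_insert_of_notMem (mem_sdiff.1 hwT).2, hA2, (hT2 μ μ₀ (hmemI μ hμ) hμ₀ hR).1] at this
      omega
  -- values
  have hval : ∀ (χ : IrrCharacter G) (t : ↥(P : Subgroup G)),
      ∑ μ : ↥(P : Subgroup G) →* ℂˣ, (udiff χ μ : ℂ) * (μ t : ℂ) =
        (if t = 1 then (Nat.card ↥(P : Subgroup G) : ℂ) else 0) * amult (P := P) χ 1 - (χ : G → ℂ) (t : G) := by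
    intro χ t
    have hq : (Nat.card ↥(P : Subgroup G) : ℂ) ≠ 0 := Nat.cast_ne_zero.2 Nat.card_pos.ne'
    have hsum : ∀ x : ↥(P : Subgroup G), ∑ μ : ↥(P : Subgroup G) →* ℂˣ, (μ x : ℂ) = if x = 1 then (Nat.card ↥(P : Subgroup G) : ℂ) else 0 := by
      intro x
      have := sum_hom_conj_mul (fun a b : ↥(P : Subgroup G) => mul_comm a b) (1 : ↥(P : Subgroup G)) x
      simp only [map_one, Units.val_one, one_mul, hcardL] at this
      rw [this]
      exact if_congr eq_comm rfl rfl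
    calc ∑ μ : ↥(P : Subgroup G) →* ℂˣ, (udiff χ μ : ℂ) * (μ t : ℂ)
        = amult (P := P) χ 1 * (∑ μ : ↥(P : Subgroup G) →* ℂˣ, (μ t : ℂ)) - ∑ μ : ↥(P : Subgroup G) →* ℂˣ, amult χ μ * (μ t : ℂ) := by
          rw [mul_sum, ← sum_sub_distrib]
          exact sum_congr rfl fun μ _ => by rw [udiff_spec]; ring
      _ = _ := by
          rw [hsum, mul_comm (amult (P := P) χ 1)]
          congr 1
          simp only [amult_eq, mul_assoc, sum_mul, ← mul_sum]
          rw [sum_comm]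
          have h1 : ∀ y : ↥(P : Subgroup G), ∑ μ : ↥(P : Subgroup G) →* ℂˣ, (χ : G → ℂ) (y : G) * ((μ y⁻¹ : ℂ) * (μ t : ℂ)) =
              (χ : G → ℂ) (y : G) * if y = t then (Nat.card ↥(P : Subgroup G) : ℂ) else 0 := fun y => by
            simp only [← mul_sum, ← Units.val_mul, ← map_mul, hsum, inv_mul_eq_one]
          simp only [h1, mul_ite, mul_zero, sum_ite_eq', mem_univ, if_true]
          field_simp
  have hsumI : ∀ t : ↥(P : Subgroup G), ∑ μ ∈ I, (μ t : ℂ) = (if t = 1 then (Nat.card ↥(P : Subgroup G) : ℂ) else 0) - 1 := by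
    intro t
    have := sum_hom_conj_mul (fun a b : ↥(P : Subgroup G) => mul_comm a b) (1 : ↥(P : Subgroup G)) t
    simp only [map_one, Units.val_one, one_mul, hcardL] at this
    rw [sum_erase_eq_sub (mem_univ _), this, MonoidHom.one_apply, Units.val_one]
    congr 1
    exact if_congr eq_comm rfl rfl
  have hAval : ∀ χ ∈ A, (∀ t : ↥(P : Subgroup G), t ≠ 1 → (χ : G → ℂ) (t : G) = (udiff χ μ₀ : ℂ)) ∧
      (χ : G → ℂ) 1 = (Nat.card ↥(P : Subgroup G) : ℂ) * amult (P := P) χ 1 - ((Nat.card ↥(P : Subgroup G) : ℂ) - 1) * (udiff χ μ₀ : ℂ) := by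
    intro χ hχ
    have h : ∀ t : ↥(P : Subgroup G), (udiff χ μ₀ : ℂ) * ((if t = 1 then (Nat.card ↥(P : Subgroup G) : ℂ) else 0) - 1) =
        (if t = 1 then (Nat.card ↥(P : Subgroup G) : ℂ) else 0) * amult (P := P) χ 1 - (χ : G → ℂ) (t : G) := fun t => by
      rw [← hval, ← hsumI, mul_sum, ← add_sum_erase _ _ (mem_univ (1 : ↥(P : Subgroup G) →* ℂˣ)), udiff_one,
        Int.cast_zero, zero_mul, zero_add]
      exact sum_congr rfl fun μ hμ => by rw [hconst χ hχ μ hμ]
    refine ⟨fun t ht => ?_, ?_⟩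
    · have := h t
      rw [if_neg ht] at this
      linear_combination this
    · have := h 1
      rw [if_pos rfl, OneMemClass.coe_one] at this
      linear_combination this
  -- an involution
  obtain ⟨⟨t, htP, ht2⟩⟩ : Nonempty {v : G // v ∈ (P : Subgroup G) ∧ orderOf v = 2} :=
    (Nat.card_pos_iff.1 (by rw [D.setup.three]; norm_num)).1
  have htt : (⟨t, htP⟩ : ↥(P : Subgroup G)) * ⟨t, htP⟩ = 1 := Subtype.ext (by
    show t * t = 1
    rw [← sq, ← ht2, pow_orderOf_eq_one])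
  have ht1 : (⟨t, htP⟩ : ↥(P : Subgroup G)) ≠ 1 := fun h => by
    have h' : t = 1 := congrArg Subtype.val h
    rw [h', orderOf_one] at ht2
    omega
  have hwt : (w : G → ℂ) t = -3 * (udiff w μ₀ : ℂ) := by
    have h := hval w ⟨t, htP⟩
    rw [if_neg ht1, zero_mul, zero_sub, ← add_sum_erase _ _ (mem_univ (1 : ↥(P : Subgroup G) →* ℂˣ)), udiff_one,
      Int.cast_zero, zero_mul, zero_add] at h
    set R : Finset (↥(P : Subgroup G) →* ℂˣ) := {μ₀, μ₀.comp D.c, μ₀.comp (D.c.comp D.c)}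
    have hR3 : R.card = 3 := by
      have a1 := D.comp_ne hμ₀
      have a2 := D.comp_comp_ne hμ₀
      have a3 : μ₀.comp (D.c.comp D.c) ≠ μ₀.comp D.c := fun e => a1 (MonoidHom.ext fun y => by
        obtain ⟨x, rfl⟩ := D.c_bijective.2 y
        exact DFunLike.congr_fun e x)
      rw [card_insert_of_notMem (by simp [Ne.symm a1, Ne.symm a2]),
        card_insert_of_notMem (by simpa using Ne.symm a3), card_singleton]
    have hRI : I.filter (fun μ => D.Rel μ μ₀) = R := by
      ext μ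
      rw [mem_filter]
      simp only [R, mem_insert, mem_singleton, Data.Rel]
      refine ⟨fun h => h.2, fun h => ⟨mem_erase.2 ⟨fun e => ?_, mem_univ _⟩, h⟩⟩
      subst e
      refine hμ₀ ?_
      rcases h with e | e | e
      · exact e.symm
      · exact MonoidHom.ext fun y => by
          obtain ⟨x, rfl⟩ := D.c_bijective.2 y
          exact (DFunLike.congr_fun e x).symm
      · exact MonoidHom.ext fun y => by
          obtain ⟨x, rfl⟩ := (D.c_bijective.comp D.c_bijective).2 y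
          exact (DFunLike.congr_fun e x).symm
    have hone : ∀ μ ∈ R, (μ ⟨t, htP⟩ : ℂ) = 1 := by
      intro μ hμ
      simp only [R, mem_insert, mem_singleton] at hμ
      rcases hμ with rfl | rfl | rfl
      · rw [hμ₀sq _ htt, Units.val_one]
      · rw [MonoidHom.comp_apply, hμ₀sq _ (by rw [← map_mul, htt, map_one]), Units.val_one]
      · rw [MonoidHom.comp_apply, MonoidHom.comp_apply,
          hμ₀sq _ (by rw [← map_mul, ← map_mul, htt, map_one, map_one]), Units.val_one]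
    have hs : ∑ μ ∈ I, (udiff w μ : ℂ) * (μ ⟨t, htP⟩ : ℂ) = 3 * (udiff w μ₀ : ℂ) := by
      rw [← sum_filter_add_sum_filter_not I (fun μ => D.Rel μ μ₀), hRI,
        sum_eq_zero (s := I.filter fun μ => ¬ D.Rel μ μ₀) (fun μ hμ => by
          rw [hwzero μ (mem_filter.1 hμ).1, if_neg (mem_filter.1 hμ).2, Int.cast_zero, zero_mul]),
        add_zero, sum_congr rfl (g := fun _ => (udiff w μ₀ : ℂ)) (fun μ hμ => by
          rw [hone μ hμ, mul_one]
          have hμ' : μ ∈ I.filter (fun μ => D.Rel μ μ₀) := hRI ▸ hμ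
          rw [hwzero μ (mem_filter.1 hμ').1, if_pos (mem_filter.1 hμ').2]),
        sum_const, hR3, nsmul_eq_mul, Nat.cast_ofNat]
    rw [hs] at h
    linear_combination h
  -- the column relations
  have hrel : ∀ F : IrrCharacter G → ℂ,
      (∀ y : ↥(P : Subgroup G), y * y ≠ 1 → ∑ χ ∈ univ.filter (· ∈ B), (χ : G → ℂ) (y : G) * F χ = 0) →
      F (oneIrr G) + udiff α μ₀ * F α + udiff β μ₀ * F β + udiff w μ₀ * F w = 0 := by
    intro F hF
    have hvan : ∀ y : ↥(P : Subgroup G), (y : G) ∉ {y : G | y * y ≠ 1} → D.theta μ₀ y = 0 := by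
      intro y hy
      have hy' : y * y = 1 := Subtype.ext (not_not.1 hy)
      simp only [Data.theta, Data.S]
      rw [hμ₀sq y hy', hμ₀sq _ (by rw [← map_mul, hy', map_one]),
        hμ₀sq _ (by rw [← map_mul, ← map_mul, hy', map_one, map_one]), Units.val_one]
      norm_num
    have h := finsum_mult_eq_zero B (P : Subgroup G) (U := {y : G | y * y ≠ 1}) (D.theta μ₀) hvan F
      fun y hy => hF y fun e => hy (by
        have : ((y : G)) * y = 1 := congrArg Subtype.val e
        rw [← mul_inv_rev, this, inv_one])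
    rw [finsum_mem_block] at h
    simp only [D.mult_theta] at h
    rw [hsplit] at h
    have hTeq : T μ₀ = {α, β, w} := by
      rw [← union_sdiff_of_subset hAμ₀, hw, hAeq]
      ext; simp only [mem_union, mem_insert, mem_singleton, or_assoc]
    have hX' : ∑ χ ∈ X, 3 * (udiff χ μ₀ : ℂ) * F χ = ∑ χ ∈ T μ₀, 3 * (udiff χ μ₀ : ℂ) * F χ := by
      refine (sum_subset (filter_subset _ _) fun χ hχ hn => ?_).symm
      rw [mem_filter] at hn
      push Not at hn
      rw [hn hχ, Int.cast_zero, mul_zero, zero_mul]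
    have hwA : w ≠ α ∧ w ≠ β := by
      have := (mem_sdiff.1 hwT).2
      rw [hAeq] at this
      simpa using this
    rw [udiff_oneIrr hμ₀, hX', hTeq, sum_insert (by simp [hαβ, hwA.1.symm]),
      sum_pair hwA.2.symm] at h
    push_cast at h
    linear_combination h / 3
  have hinv : ∀ y : ↥(P : Subgroup G), y * y ≠ 1 → ∀ g : G,
      (g * t * g⁻¹) * (y : G) * (g * t * g⁻¹)⁻¹ ≠ ((y : G))⁻¹ := by
    intro y hy g h
    set s := g * t * g⁻¹
    have hs2 : orderOf s = 2 :=
      (orderOf_injective (MulAut.conj g).toMonoidHom (MulAut.conj g).injective t).trans ht2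
    set Y := Subgroup.zpowers (y : G)
    have hYle : Subgroup.zpowers s ≤ Subgroup.normalizer (Y : Set G) := by
      rw [Subgroup.zpowers_le, Subgroup.mem_normalizer_iff_map_conj_eq, MonoidHom.map_zpowers]
      show Subgroup.zpowers (s * y * s⁻¹) = Y
      rw [h, Subgroup.zpowers_inv]
    have hY : IsPGroup 2 Y := P.isPGroup'.to_le (Subgroup.zpowers_le.2 y.2)
    have hS : IsPGroup 2 (Subgroup.zpowers s) :=
      IsPGroup.of_card (n := 1) (by rw [Nat.card_zpowers, hs2, pow_one])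
    obtain ⟨Q, hQ⟩ := (IsPGroup.to_sup_of_normal_left' hY hS hYle).exists_le_sylow
    obtain ⟨k, hk⟩ := MulAction.exists_smul_eq G Q P
    have hmem : ∀ x ∈ Q, k * x * k⁻¹ ∈ (P : Subgroup G) := fun x hx => by
      rw [← hk]; exact ⟨x, hx, rfl⟩
    have hc := D.setup.comm _ (hmem s (hQ (Subgroup.mem_sup_right (Subgroup.mem_zpowers s)))) _
      (hmem y (hQ (Subgroup.mem_sup_left (Subgroup.mem_zpowers _))))
    have hc' : s * y = y * s := by
      have := congrArg (fun z => k⁻¹ * z * k) hc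
      simpa [mul_assoc] using this
    rw [hc', mul_inv_cancel_right] at h
    exact hy (Subtype.ext (eq_inv_iff_mul_eq_one.1 h))
  have hcr : ∀ y : ↥(P : Subgroup G), y * y ≠ 1 →
      (∑ χ ∈ univ.filter (· ∈ B),
          (χ : G → ℂ) (y : G) * ((χ : G → ℂ) t ^ 2 / (χ : G → ℂ) 1) = 0) ∧
        (∑ χ ∈ univ.filter (· ∈ B), (χ : G → ℂ) (y : G) * (χ : G → ℂ) 1 = 0) ∧
        (∑ χ ∈ univ.filter (· ∈ B), (χ : G → ℂ) (y : G) * (χ : G → ℂ) t = 0) := fun y hy => by
    obtain ⟨k, hk⟩ := IsPGroup.iff_orderOf.1 P.isPGroup' y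
    exact column_relations (M := M) hM (y := (y : G)) (t := t) (k := k)
      (by rw [Subgroup.orderOf_coe, hk]) ht2 (hinv y hy)
  have e2 := hrel (fun χ => (χ : G → ℂ) 1) fun y hy => (hcr y hy).2.1
  have e1 := hrel (fun χ => (χ : G → ℂ) t ^ 2 / (χ : G → ℂ) 1) fun y hy => (hcr y hy).1
  have hαA : α ∈ A := by rw [hAeq]; simp
  have hβA : β ∈ A := by rw [hAeq]; simp
  simp only [oneIrr_apply, (hAval α hαA).1 ⟨t, htP⟩ ht1, (hAval β hβA).1 ⟨t, htP⟩ ht1, hwt] at e1
  simp only [oneIrr_apply] at e2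
  have hsign : ∀ χ ∈ T μ₀, udiff χ μ₀ = 1 ∨ udiff χ μ₀ = -1 := fun χ hχ =>
    (hsmall μ₀ hμ₀ χ (mem_filter.1 hχ).1).resolve_left (mem_filter.1 hχ).2
  set εa := udiff α μ₀ with hεa
  set εb := udiff β μ₀ with hεb
  set εw := udiff w μ₀ with hεw
  set a : ℤ := εa * charDegree (α : G → ℂ) with ha
  set b : ℤ := εb * charDegree (β : G → ℂ) with hb
  set E : ℤ := -εw * charDegree (w : G → ℂ) with hE
  have hE' : 1 + a + b = E := by
    refine Int.cast_injective (α := ℂ) ?_
    rw [(irr_one α).1, (irr_one β).1, (irr_one w).1] at e2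
    push_cast [a, b, E]
    linear_combination e2
  have hq' : (a * b + a + b) * E = 9 * (a * b) := by
    refine Int.cast_injective (α := ℂ) ?_
    have ha0 := irr_one_ne_zero α
    have hb0 := irr_one_ne_zero β
    have hw0 := irr_one_ne_zero w
    rw [(irr_one α).1] at ha0
    rw [(irr_one β).1] at hb0
    rw [(irr_one w).1] at hw0
    rw [(irr_one α).1, (irr_one β).1, (irr_one w).1] at e1
    field_simp at e1
    push_cast [a, b, E]
    rcases hsign α (hAμ₀ hαA) with ea | ea <;> rcases hsign β (hAμ₀ hβA) with eb | eb <;>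
      rcases hsign w (mem_sdiff.1 hwT).1 with ew | ew <;>
      simp only [← hεa, ← hεb, ← hεw] at ea eb ew <;> rw [ea, eb, ew] at e1 ⊢ <;>
      push_cast at e1 ⊢ <;> first | linear_combination e1 | linear_combination -e1
  obtain ⟨e, he⟩ := P.isPGroup'.exists_card_eq
  have h16 : ∀ χ ∈ A, (16 : ℤ) ∣ udiff χ μ₀ * charDegree (χ : G → ℂ) - 1 := by
    intro χ hχ
    obtain ⟨n, hn⟩ := exists_amult (P := P) χ 1
    have h := (hAval χ hχ).2
    rw [hn, (irr_one χ).1] at h
    have hd : (charDegree (χ : G → ℂ) : ℤ) = Nat.card ↥(P : Subgroup G) * n - ((Nat.card ↥(P : Subgroup G) : ℤ) - 1) * udiff χ μ₀ := by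
      refine Int.cast_injective (α := ℂ) ?_
      push_cast
      exact h
    have h16q : (16 : ℕ) ∣ Nat.card ↥(P : Subgroup G) := by
      have he4 : 4 ≤ e := by
        by_contra hlt
        have : (2 : ℕ) ^ e ≤ 2 ^ 3 := Nat.pow_le_pow_right (by norm_num) (by omega)
        rw [he] at hbig
        omega
      show 16 ∣ Nat.card (P : Subgroup G)
      rw [he]
      exact pow_dvd_pow 2 he4
    obtain ⟨r, hr⟩ := h16q
    have hsq : udiff χ μ₀ * udiff χ μ₀ = 1 := by
      rcases hsign χ (hAμ₀ hχ) with e | e <;> rw [e] <;> rfl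
    refine ⟨(r : ℤ) * (udiff χ μ₀ * n - 1), ?_⟩
    rw [hd, hr]
    push_cast
    linear_combination (1 - 16 * (r : ℤ)) * hsq
  obtain ⟨ha1, -⟩ := degree_solve (h16 α hαA) (h16 β hβA) hE' hq'
  have hαpos : εa = 1 ∧ charDegree (α : G → ℂ) = 1 := by
    rcases Int.mul_eq_one_iff_eq_one_or_neg_one.1 ha1 with ⟨h1, h2⟩ | ⟨-, h2⟩
    · exact ⟨h1, by exact_mod_cast h2⟩
    · omega
  have hα1 : (α : G → ℂ) 1 = 1 := by rw [(irr_one α).1, hαpos.2, Nat.cast_one]
  obtain ⟨ν, hν⟩ := IsCharacter.exists_hom (isCharacter_irr α) hα1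
  refine ⟨ν, fun h => ?_, fun y hy => Units.ext ?_⟩
  · have hne : α ≠ oneIrr G := (mem_filter.1 (mem_filter.1 (hAμ₀ hαA)).1).2.2
    refine hne (Subtype.ext ?_)
    rw [hν, h]
    rfl
  · rw [← congrFun hν y, Units.val_one]
    by_cases h1 : (⟨y, hy⟩ : ↥(P : Subgroup G)) = 1
    · rw [show y = 1 from congrArg Subtype.val h1, hα1]
    · rw [(hAval α hαA).1 ⟨y, hy⟩ h1, ← hεa, hαpos.1, Int.cast_one]

end CfsgLib.Homocyclic
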