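import Cfsg.Agent.Fusion.HomocyclicTwo
import Cfsg.Agent.BlocksB.PrincipalInner
import Cfsg.Agent.Char.CyclicFamily
import Cfsg.Agent.Blocks.KleinFour
import Mathlib.GroupTheory.FiniteAbelian.Duality

/-!
# The characters `3 - (μ + μ^c + μ^(c²))` of an abelian Sylow 2-subgroup and the principal block
-/

set_option autoImplicit false
set_option linter.style.haveILetI false
set_option linter.unusedSectionVars false

namespace CfsgLib.Homocyclic

open Cfsg Finset CfsgLib.Block CfsgLib.Block.Chr CfsgLib.Char CfsgLib.BlockB CfsgLib.HomocyclicTwo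
open scoped ComplexConjugate
open scoped Classical

universe u

/-- The data: an element of the normalizer outside the centralizer. -/
structure Data {G : Type u} [Group G] [Finite G] (P : Sylow 2 G) where
  setup : HomocyclicTwo.Setup P
  g : G
  hg : g ∈ Subgroup.normalizer ((P : Subgroup G) : Set G)
  hgC : g ∉ Subgroup.centralizer ((P : Subgroup G) : Set G)
  index : Subgroup.relIndex (Subgroup.centralizer ((P : Subgroup G) : Set G))
    (Subgroup.normalizer ((P : Subgroup G) : Set G)) = 3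

variable {G : Type u} [Group G] [Fintype G] {P : Sylow 2 G} (D : Data P)

/-- Conjugation on the Sylow subgroup. -/
noncomputable def Data.c : (P : Subgroup G) →* (P : Subgroup G) :=
  MonoidHom.mk' (fun x => ⟨D.g * x * D.g⁻¹, (Subgroup.mem_normalizer_iff.1 D.hg x).1 x.2⟩)
    fun x y => Subtype.ext (by push_cast; group)

theorem Data.c_val (x : (P : Subgroup G)) : (D.c x : G) = D.g * x * D.g⁻¹ := rfl

theorem Data.g_pow_three : D.g ^ 3 ∈ Subgroup.centralizer ((P : Subgroup G) : Set G) := by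
  have := HomocyclicTwo.pow_mem_centralizer D.setup D.hg
  rwa [D.index] at this

theorem Data.c_three (x : (P : Subgroup G)) : D.c (D.c (D.c x)) = x := by
  refine Subtype.ext ?_
  simp only [Data.c_val]
  calc D.g * (D.g * (D.g * x * D.g⁻¹) * D.g⁻¹) * D.g⁻¹
      = D.g ^ 3 * x * (D.g ^ 3)⁻¹ := by simp only [pow_succ, pow_zero, one_mul]; group
    _ = x := by rw [← Subgroup.mem_centralizer_iff.1 D.g_pow_three x x.2, mul_inv_cancel_right]

theorem Data.c_bijective : Function.Bijective D.c :=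
  ⟨fun a b h => by rw [← D.c_three a, h, D.c_three], fun b => ⟨_, D.c_three b⟩⟩

theorem Data.c_fixed {x : (P : Subgroup G)} (h : D.c x = x) : x = 1 := by
  by_contra hx
  refine D.hgC (HomocyclicTwo.mem_centralizer_of_centralizes D.setup x.2
    (fun e => hx (Subtype.ext e)) D.hg ?_)
  exact mul_inv_eq_iff_eq_mul.1 (congrArg Subtype.val h)

theorem Data.normalizer_cases {n : G} (hn : n ∈ Subgroup.normalizer ((P : Subgroup G) : Set G)) :
    ∃ j < 3, ∀ x : (P : Subgroup G), n * x * n⁻¹ = (D.c^[j] x : G) := by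
  set N := Subgroup.normalizer ((P : Subgroup G) : Set G)
  set φ := Subgroup.normalizerMonoidHom (P : Subgroup G)
  have hker : φ.ker = (Subgroup.centralizer ((P : Subgroup G) : Set G)).subgroupOf N :=
    Subgroup.normalizerMonoidHom_ker _
  have hcard : Nat.card φ.range = 3 := by
    rw [← Subgroup.index_ker, hker]; exact D.index
  haveI : Fact (Nat.Prime 3) := ⟨Nat.prime_three⟩
  have hne : (⟨φ ⟨D.g, D.hg⟩, ⟨_, rfl⟩⟩ : φ.range) ≠ 1 := by
    intro h
    have : (⟨D.g, D.hg⟩ : N) ∈ φ.ker := congrArg Subtype.val h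
    rw [hker] at this
    exact D.hgC this
  obtain ⟨j, hj⟩ := (Submonoid.mem_powers_iff _ _).1
    (mem_powers_of_prime_card hcard (g' := (⟨φ ⟨n, hn⟩, ⟨_, rfl⟩⟩ : φ.range)) hne)
  refine ⟨j % 3, Nat.mod_lt _ (by norm_num), fun x => ?_⟩
  have hj' : φ ⟨n, hn⟩ = φ ⟨D.g, D.hg⟩ ^ j := by
    have := (congrArg Subtype.val hj).symm
    simpa using this
  have hit : ∀ i : ℕ, ((φ ⟨D.g, D.hg⟩ ^ i) x) = D.c^[i] x := by
    intro i
    induction i generalizing x with
    | zero => rfl
    | succ i ih =>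
      rw [pow_succ, MulAut.mul_apply, Function.iterate_succ_apply, ih]
      rfl
  have hmod : D.c^[j] x = D.c^[j % 3] x := by
    conv_lhs => rw [← Nat.mod_add_div j 3, Function.iterate_add_apply]
    congr 1
    induction j / 3 with
    | zero => rfl
    | succ k ih =>
      rw [Nat.mul_succ, Function.iterate_add_apply]
      show D.c^[3 * k] (D.c (D.c (D.c x))) = x
      rw [D.c_three, ih]
  calc n * (x : G) * n⁻¹ = ((φ ⟨n, hn⟩ x : (P : Subgroup G)) : G) := rfl
    _ = _ := by rw [hj', hit, hmod]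

/-- The sum over the orbit. -/
noncomputable def Data.S (μ : (P : Subgroup G) →* ℂˣ) (y : (P : Subgroup G)) : ℂ :=
  (μ y : ℂ) + (μ (D.c y) : ℂ) + (μ (D.c (D.c y)) : ℂ)

/-- The generalized character. -/
noncomputable def Data.theta (μ : (P : Subgroup G) →* ℂˣ) (y : (P : Subgroup G)) : ℂ :=
  3 - D.S μ y

theorem Data.theta_one (μ : (P : Subgroup G) →* ℂˣ) : D.theta μ 1 = 0 := by
  simp only [Data.theta, Data.S, map_one, Units.val_one]; norm_num

theorem Data.theta_c (μ : (P : Subgroup G) →* ℂˣ) (y : (P : Subgroup G)) :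
    D.theta μ (D.c y) = D.theta μ y := by
  simp only [Data.theta, Data.S, D.c_three]; ring

theorem Data.isGeneralized_theta (μ : (P : Subgroup G) →* ℂˣ) :
    IsGeneralizedCharacter (P : Subgroup G) (D.theta μ) := by
  have h3 : IsCharacter (P : Subgroup G) (((3 : ℕ) : ℂ) • fun _ => (1 : ℂ)) :=
    IsCharacter.natCast_smul CfsgLib.Char.isCharacter_one 3
  have hS : IsCharacter (P : Subgroup G) ((fun y => (μ y : ℂ)) + (fun y => ((μ.comp D.c) y : ℂ)) +
      fun y => ((μ.comp (D.c.comp D.c)) y : ℂ)) :=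
    IsCharacter.add (IsCharacter.add (isCharacter_ofHom μ) (isCharacter_ofHom (μ.comp D.c)))
      (isCharacter_ofHom (μ.comp (D.c.comp D.c)))
  refine ⟨_, _, h3, hS, funext fun y => ?_⟩
  simp [Data.theta, Data.S, Pi.sub_apply, Pi.add_apply]

/-- The orbit relation. -/
def Data.Rel (μ ν : (P : Subgroup G) →* ℂˣ) : Prop :=
  μ = ν ∨ μ = ν.comp D.c ∨ μ = ν.comp (D.c.comp D.c)

theorem Data.comp_ne {μ : (P : Subgroup G) →* ℂˣ} (hμ : μ ≠ 1) : μ.comp D.c ≠ μ := by
  intro h
  refine hμ (MonoidHom.ext fun y => ?_)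
  haveI : IsMulCommutative (P : Subgroup G) :=
    ⟨⟨fun a b => Subtype.ext (D.setup.comm a a.2 b b.2)⟩⟩
  let ψ : (P : Subgroup G) →* (P : Subgroup G) := MonoidHom.mk' (fun x => x⁻¹ * D.c x) fun a b => by
    have hcomm : ∀ a b : (P : Subgroup G), a * b = b * a := fun a b =>
      Subtype.ext (D.setup.comm a a.2 b b.2)
    rw [map_mul, mul_inv_rev]
    calc b⁻¹ * a⁻¹ * (D.c a * D.c b) = b⁻¹ * (a⁻¹ * D.c a) * D.c b := by group
      _ = a⁻¹ * D.c a * (b⁻¹ * D.c b) := by rw [hcomm b⁻¹, mul_assoc]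
  have hinj : Function.Injective ψ := (injective_iff_map_eq_one ψ).2 fun x hx =>
    D.c_fixed (inv_mul_eq_one.1 hx).symm
  obtain ⟨x, rfl⟩ := Finite.injective_iff_surjective.1 hinj y
  show μ (x⁻¹ * D.c x) = 1
  rw [map_mul, map_inv, show μ (D.c x) = μ x from DFunLike.congr_fun h x, inv_mul_cancel]

theorem Data.comp_comp_ne {μ : (P : Subgroup G) →* ℂˣ} (hμ : μ ≠ 1) :
    μ.comp (D.c.comp D.c) ≠ μ := by
  intro h
  refine D.comp_ne hμ (MonoidHom.ext fun x => ?_)
  have := DFunLike.congr_fun h (D.c x)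
  simp only [MonoidHom.comp_apply, D.c_three] at this
  exact this.symm

theorem sum_hom_orth (μ ν : (P : Subgroup G) →* ℂˣ) :
    ∑ y : (P : Subgroup G), (μ y : ℂ) * conj (ν y : ℂ) =
      if μ = ν then (Nat.card (P : Subgroup G) : ℂ) else 0 := by
  have h := classInner_homFun μ ν
  rw [CfsgLib.Char.classInner_def] at h
  simp only [homFun] at h
  have hne : (Nat.card (P : Subgroup G) : ℂ) ≠ 0 := Nat.cast_ne_zero.2 Nat.card_pos.ne'
  rw [inv_mul_eq_iff_eq_mul₀ hne] at h
  rw [h]
  split_ifs <;> simp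

theorem Data.sum_theta_mul (μ ν : (P : Subgroup G) →* ℂˣ) (hμ : μ ≠ 1) (hν : ν ≠ 1) :
    ∑ y : (P : Subgroup G), D.theta μ y * conj (D.theta ν y) =
      (Nat.card (P : Subgroup G) : ℂ) * (9 + 3 * if D.Rel μ ν then 1 else 0) := by
  set q : ℂ := (Nat.card (P : Subgroup G) : ℂ)
  have hre : ∀ (f : ↥(P : Subgroup G) → ℂ),
      ∑ y, f (D.c y) * conj (D.theta ν y) = ∑ y, f y * conj (D.theta ν y) := by
    intro f
    conv_lhs => enter [2, y]; rw [← D.theta_c ν y]
    exact Fintype.sum_bijective D.c D.c_bijective _ _ fun y => rfl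
  have hone : ∀ lam : (P : Subgroup G) →* ℂˣ, ∑ y, (lam y : ℂ) * conj (D.theta ν y) =
      q * (3 * (if lam = 1 then 1 else 0) - ((if lam = ν then 1 else 0) +
        (if lam = ν.comp D.c then 1 else 0) + (if lam = ν.comp (D.c.comp D.c) then 1 else 0))) := by
    intro lam
    have h1 : ∀ y : (P : Subgroup G), conj (D.theta ν y) =
        3 * conj ((1 : (P : Subgroup G) →* ℂˣ) y : ℂ) - (conj (ν y : ℂ) +
          conj ((ν.comp D.c) y : ℂ) + conj ((ν.comp (D.c.comp D.c)) y : ℂ)) := fun y => by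
      simp [Data.theta, Data.S, map_ofNat]
    simp only [h1, mul_sub, mul_add, sum_sub_distrib, sum_add_distrib]
    simp only [mul_left_comm _ (3 : ℂ), ← mul_sum, sum_hom_orth, q]
    split_ifs <;> ring
  have e1 : ∑ y, D.theta μ y * conj (D.theta ν y) =
      3 * ∑ y, ((1 : (P : Subgroup G) →* ℂˣ) y : ℂ) * conj (D.theta ν y) -
        3 * ∑ y, (μ y : ℂ) * conj (D.theta ν y) := by
    have h1 := hre (fun y => (μ y : ℂ))
    have h2 := (hre (fun y => (μ (D.c y) : ℂ))).trans h1
    conv_lhs => enter [2, y]; rw [Data.theta, Data.S, sub_mul, add_mul, add_mul]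
    rw [sum_sub_distrib, sum_add_distrib, sum_add_distrib, h1, h2, ← mul_sum]
    simp only [MonoidHom.one_apply, Units.val_one, one_mul]
    ring
  have hν1 : ν.comp D.c ≠ 1 := fun h => hν (MonoidHom.ext fun y => by
    obtain ⟨x, rfl⟩ := D.c_bijective.2 y
    exact DFunLike.congr_fun h x)
  have hν2 : ν.comp (D.c.comp D.c) ≠ 1 := fun h => hν (MonoidHom.ext fun y => by
    obtain ⟨x, rfl⟩ := (D.c_bijective.comp D.c_bijective).2 y
    exact DFunLike.congr_fun h x)
  rw [e1, hone, hone, if_pos rfl, if_neg (Ne.symm hν), if_neg hν1.symm, if_neg hν2.symm, if_neg hμ]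
  by_cases hR : D.Rel μ ν
  · rw [if_pos hR]
    have a1 := D.comp_ne hν
    have a2 := D.comp_comp_ne hν
    have a3 : ν.comp (D.c.comp D.c) ≠ ν.comp D.c := fun h => a1 (MonoidHom.ext fun y => by
      obtain ⟨x, rfl⟩ := D.c_bijective.2 y
      exact DFunLike.congr_fun h x)
    rcases hR with rfl | rfl | rfl
    · rw [if_pos rfl, if_neg (Ne.symm a1), if_neg (Ne.symm a2)]; ring
    · rw [if_neg a1, if_pos rfl, if_neg (Ne.symm a3)]; ring
    · rw [if_neg a2, if_neg a3, if_pos rfl]; ring
  · rw [if_neg hR]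
    simp only [Data.Rel, not_or] at hR
    rw [if_neg hR.1, if_neg hR.2.1, if_neg hR.2.2]; ring

variable {M : Ideal AlgInt} [M.IsPrime]

theorem Data.centralizer_block (D : Data P) (hM : IsPModular 2 M) {y : G} (hy : y ∈ (P : Subgroup G))
    (hy1 : y ≠ 1) :
    (∑ᶠ ψ ∈ principalBlock M (Subgroup.centralizer ({y} : Set G)),
        charDegree (ψ : Subgroup.centralizer ({y} : Set G) → ℂ) ^ 2) =
      Nat.card (P : Subgroup G) := by
  haveI : Fact (Nat.Prime 2) := ⟨Nat.prime_two⟩
  set H := Subgroup.centralizer ({y} : Set G)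
  have hPC : (P : Subgroup G) ≤ H := fun a ha =>
    Subgroup.mem_centralizer_singleton_iff.2 (D.setup.comm a ha y hy)
  let Q : Sylow 2 H := P.subtype hPC
  have hQ : (Q : Subgroup H) = (P : Subgroup G).subgroupOf H := rfl
  have hQn : Subgroup.normalizer ((Q : Subgroup H) : Set H) ≤
      Subgroup.centralizer ((Q : Subgroup H) : Set H) := by
    intro n hn
    have hnN : (n : G) ∈ Subgroup.normalizer ((P : Subgroup G) : Set G) := by
      refine Subgroup.mem_normalizer_iff_map_conj_eq.2 (Subgroup.eq_of_le_of_card_ge ?_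
        (le_of_eq (Subgroup.card_map_of_injective (MulAut.conj (n : G)).injective).symm))
      rintro _ ⟨a, ha, rfl⟩
      exact (Subgroup.mem_normalizer_iff.1 hn ⟨a, hPC ha⟩).1 ha
    have hC := HomocyclicTwo.mem_centralizer_of_centralizes D.setup hy hy1 hnN
      (Subgroup.mem_centralizer_singleton_iff.1 n.2)
    refine Subgroup.mem_centralizer_iff.2 fun q hq => Subtype.ext ?_
    exact Subgroup.mem_centralizer_iff.1 hC _ hq
  set K := (MonoidHom.transferSylow Q hQn).ker
  have hidx : K.index = Nat.card (P : Subgroup G) := by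
    rw [(MonoidHom.ker_transferSylow_isComplement' Q hQn).symm.index_eq_card, hQ,
      Nat.card_congr (Subgroup.subgroupOfEquivOfLe hPC).toEquiv]
  have hK : ¬ 2 ∣ Nat.card K := by
    rw [(MonoidHom.ker_transferSylow_isComplement' Q hQn).index_eq_card.symm]
    exact Q.not_dvd_index
  obtain ⟨e, he⟩ := P.isPGroup'.exists_card_eq
  have hP : Nat.card (P : Subgroup G) = 2 ^ (Nat.card H).factorization 2 := by
    rw [← Q.card_eq_multiplicity, hQ, Nat.card_congr (Subgroup.subgroupOfEquivOfLe hPC).toEquiv]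
  letI := irrFintype (G := H)
  have h := principal_complement_sum hM K hK ⟨_, hidx.trans hP⟩ (y := (1 : H))
    (by rw [orderOf_one]; exact Nat.prime_two.not_dvd_one)
  rw [hP]
  rw [finsum_set_eq]
  apply Nat.cast_injective (R := ℂ)
  rw [← h, Nat.cast_sum]
  exact sum_congr rfl fun ψ _ => by
    rw [(irr_one ψ).1, Complex.conj_natCast, Nat.cast_pow, sq]

/-- The inner products of the columns. -/
theorem Data.column (hM : IsPModular 2 M) [Fintype (IrrCharacter G)]
    (μ ν : (P : Subgroup G) →* ℂˣ) (hμ : μ ≠ 1) (hν : ν ≠ 1) :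
    ∑ χ ∈ univ.filter (· ∈ principalBlock M G),
        mult (P : Subgroup G) (D.theta μ) χ * conj (mult (P : Subgroup G) (D.theta ν) χ) =
      27 + 9 * if D.Rel μ ν then 1 else 0 := by
  haveI : Fact (Nat.Prime 2) := ⟨Nat.prime_two⟩
  haveI : IsMulCommutative (P : Subgroup G) :=
    ⟨⟨fun a b => Subtype.ext (D.setup.comm a a.2 b b.2)⟩⟩
  set N := Subgroup.normalizer ((P : Subgroup G) : Set G)
  set C := Subgroup.centralizer ((P : Subgroup G) : Set G)
  set U : Set G := {y | y ∈ (P : Subgroup G) ∧ y ≠ 1}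
  have hC0 : (Nat.card C : ℂ) ≠ 0 := Nat.cast_ne_zero.2 Nat.card_pos.ne'
  have hcards : Nat.card N = 3 * Nat.card C := by
    have hle : C ≤ N := Subgroup.centralizer_le_normalizer _
    rw [← Subgroup.card_mul_index ((C).subgroupOf N),
      Nat.card_congr (Subgroup.subgroupOfEquivOfLe hle).toEquiv, mul_comm]
    congr 1
    exact D.index
  have h := column_inner (M := M) hM (P : Subgroup G) P.isPGroup' N U (fun y hy => hy.1)
    (fun n hn y hy => ⟨(Subgroup.mem_normalizer_iff.1 hn y).1 hy.1, fun e => hy.2 (by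
      simpa using e)⟩)
    (fun y hy g hgy => by
      obtain ⟨n, hn, he⟩ := P.conj_eq_normalizer_conj_of_mem y g⁻¹ hy.1 (by simpa using hgy)
      exact ⟨n⁻¹, inv_mem hn, by simpa using he.symm⟩)
    ((Nat.card (P : Subgroup G) : ℚ) / (Nat.card C : ℚ))
    (fun y hy => by
      rw [D.centralizer_block hM hy.1 hy.2]
      have hNC : N ⊓ Subgroup.centralizer ({y} : Set G) = C := le_antisymm
        (fun n hn => HomocyclicTwo.mem_centralizer_of_centralizes D.setup hy.1 hy.2 hn.1
          (Subgroup.mem_centralizer_singleton_iff.1 hn.2))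
        fun n hn => ⟨Subgroup.centralizer_le_normalizer _ hn,
          Subgroup.mem_centralizer_singleton_iff.2 (Subgroup.mem_centralizer_iff.1 hn y hy.1).symm⟩
      rw [hNC, div_mul_cancel₀]
      exact Nat.cast_ne_zero.2 Nat.card_pos.ne')
    (D.theta μ) (D.theta ν) (D.isGeneralized_theta μ) (D.isGeneralized_theta ν)
    (fun y hy => by
      have : y = 1 := by
        by_contra h1
        exact hy ⟨y.2, fun e => h1 (Subtype.ext e)⟩
      rw [this, D.theta_one])
  rw [finsum_mem_block] at h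
  rw [h, finsum_eq_sum_of_fintype]
  haveI : Fintype N := Fintype.ofFinite _
  have hinner : ∀ y : (P : Subgroup G), ∑ᶠ x : N, Cfsg.extendByZero (P : Subgroup G) (D.theta ν)
      ((x : G) * (y : G) * (x : G)⁻¹) = (Nat.card N : ℂ) * D.theta ν y := by
    intro y
    rw [finsum_eq_sum_of_fintype]
    have key : ∀ x : N, Cfsg.extendByZero (P : Subgroup G)
        (D.theta ν) ((x : G) * (y : G) * (x : G)⁻¹) = D.theta ν y := ?_
    · rw [sum_congr rfl fun x _ => key x, sum_const, nsmul_eq_mul, card_univ,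
        Nat.card_eq_fintype_card]
    intro x
    obtain ⟨j, -, hj⟩ := D.normalizer_cases x.2
    rw [hj y, CfsgLib.Char.extendByZero_apply]
    clear hj
    induction j with
    | zero => rfl
    | succ j ih => rw [Function.iterate_succ_apply', D.theta_c, ih]
  simp only [hinner, map_mul, map_natCast, mul_left_comm (D.theta μ _), ← mul_sum]
  rw [D.sum_theta_mul μ ν hμ hν, hcards]
  push_cast
  have hq : (Nat.card (P : Subgroup G) : ℂ) ≠ 0 := Nat.cast_ne_zero.2 Nat.card_pos.ne'
  field_simp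
  ring

end CfsgLib.Homocyclic
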